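import Cfsg.Agent.Golay.TripleGen.Data
import Cfsg.Agent.Golay.OutTwo22
import Cfsg.Agent.Golay.IndexPoint
import Cfsg.Agent.Golay.SylowCert
import Cfsg.Prelude.Def_Spor_Mathieu

/-!
Kernel checks on the certificates for generating triples of the group of degree 23.
-/

set_option autoImplicit false
set_option maxRecDepth 100000
set_option Elab.async false

namespace CfsgLib.Golay.TripleGen

open Cfsg CfsgLib.Golay CfsgLib.Golay.SylowCert

/-- The transversal lists from the standard pair. -/
def chainL : List (List ℕ) := chainProg.foldl stepL (List.range 24 :: stdL)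

/-- The derived lists of a certificate. -/
def certL (c : Cert) : List (List ℕ) := c.prog.foldl stepL [List.range 24, c.x, c.y]

/-- Iterated composition. -/
def powN (L : List ℕ) : ℕ → List ℕ
  | 0 => List.range 24
  | n + 1 => compL (powN L n) L

theorem stdL_ok : ∀ L ∈ stdL, Good L ∧ L.length = 24 ∧ PreservesCode L ∧ L.getD 23 0 = 23 := by
  unfold PreservesCode; decide +kernel

theorem chain_fix : ∀ k < 6, ∀ e ∈ chain.getD k [],
    (chainL.getD e.2 (List.range 24)).getD (baseIdx.getD (k + 1) 0) 0 = e.1 ∧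
    ∀ j < k + 1, (chainL.getD e.2 (List.range 24)).getD (baseIdx.getD j 0) 0 = baseIdx.getD j 0 := by
  decide +kernel

theorem chain_covers : ∀ k < 6, ∀ e ∈ orb (k + 1), e.1 ∈ (chain.getD k []).map Prod.fst := by
  decide +kernel

theorem certs_ok : ∀ c ∈ certs, (Good c.x ∧ c.x.length = 24 ∧ PreservesCode c.x ∧ c.x.getD 23 0 = 23) ∧
    (Good c.y ∧ c.y.length = 24 ∧ PreservesCode c.y ∧ c.y.getD 23 0 = 23) := by
  unfold PreservesCode; decide +kernel

theorem certs_order : ∀ c ∈ certs, (c.x ≠ List.range 24 ∧ powN c.x c.p = List.range 24) ∧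
    (c.y ≠ List.range 24 ∧ powN c.y c.q = List.range 24) ∧
    (compL c.x c.y ≠ List.range 24 ∧ powN (compL c.x c.y) c.r = List.range 24) := by decide +kernel

theorem certs_gen : ∀ c ∈ certs, (certL c).getD c.a [] = stdL.getD 0 [] ∧
    (certL c).getD c.b [] = stdL.getD 1 [] := by decide +kernel

/-- The excluded triples. -/
def excl (p q r : ℕ) : Prop :=
  (p = 2 ∧ q = 3) ∨ (p = 2 ∧ q = 5 ∧ r = 5) ∨ (p = 2 ∧ q = 5 ∧ r = 7) ∨ (p = 3 ∧ q = 3 ∧ r ≤ 7)

instance (p q r : ℕ) : Decidable (excl p q r) := by unfold excl; infer_instance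

/-- Some certificate has this type. -/
def covered (p q r : ℕ) : Bool := certs.any fun c => c.p == p && c.q == q && c.r == r

theorem certs_cover : ∀ p ∈ [2, 3, 5, 7, 11, 23], ∀ q ∈ [2, 3, 5, 7, 11, 23], ∀ r ∈ [2, 3, 5, 7, 11, 23],
    p ≤ q → q ≤ r → ¬ (p = 2 ∧ q = 2) →
    excl p q r ∨ covered p q r = true := by decide +kernel

end CfsgLib.Golay.TripleGen
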