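/-!
Certificates: a straight-line program for transversals of the group of degree 23 from two standard
permutations, and for each admissible triple of primes a generating pair.
-/

set_option autoImplicit false

namespace CfsgLib.Golay.TripleGen

/-- The two standard permutations. -/
def stdL : List (List Nat) :=
  [[1, 2, 3, 4, 5, 6, 7, 8, 9, 10, 11, 12, 13, 14, 15, 16, 17, 18, 19, 20, 21, 22, 0, 23], [0, 18, 6, 3, 2, 21, 1, 5, 16, 12, 7, 19, 8, 9, 17, 15, 13, 11, 4, 22, 10, 20, 14, 23]]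

/-- Program for the transversals. -/
def chainProg : List (Nat × Nat) :=
  [(1, 0), (3, 2), (4, 0), (5, 4), (5, 2), (5, 7), (2, 0), (9, 4), (9, 6), (9, 10), (9, 11), (9, 12), (9, 13), (9, 14), (9, 15), (9, 2), (9, 18), (7, 0), (20, 1), (8, 0), (22, 21), (5, 10), (5, 11), (5, 12), (5, 14), (5, 15), (5, 17), (5, 25), (5, 28), (5, 31), (5, 32), (5, 33), (21, 0), (23, 0), (36, 24), (30, 37), (9, 38), (9, 39), (9, 40), (9, 41), (38, 0), (43, 18), (43, 19), (43, 40), (43, 44), (43, 45), (43, 46), (43, 47), (43, 49), (43, 50), (43, 51), (43, 52), (9, 1), (37, 0), (56, 55), (12, 57), (51, 58), (9, 48), (59, 0), (61, 59), (61, 62), (61, 63), (61, 64), (57, 0), (66, 4), (16, 67), (53, 68), (65, 69), (70, 0), (71, 62), (71, 64), (71, 65), (71, 61), (71, 72), (71, 73), (71, 74), (67, 0), (79, 21), (30, 80), (39, 81), (75, 82), (61,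 72), (61, 73), (61, 75), (61, 77), (61, 84), (61, 85), (61, 89), (83, 0), (91, 83), (91, 92), (71, 83), (71, 92), (71, 93), (71, 91), (71, 94), (71, 95), (71, 96), (71, 97), (80, 0), (102, 18), (30, 103), (9, 104), (75, 105), (92, 106), (91, 94), (91, 96), (91, 98), (91, 100), (91, 108), (91, 111), (91, 112), (9, 21), (103, 0), (116, 115), (16, 117), (39, 118), (74, 119), (83, 120), (107, 121), (9, 115), (117, 0), (124, 123), (3, 123), (125, 0), (127, 126), (33, 128), (40, 129), (75, 130), (114, 131), (107, 132), (121, 132), (121, 133), (128, 0), (136, 7), (20, 126), (137, 0), (139, 138), (138, 0), (141, 55), (140, 0), (143, 142), (115, 0), (145, 123), (144, 0), (147, 146), (35, 55), (148, 0), (150, 149), (142, 0), (152, 146), (151, 0), (154, 153), (30, 155), (44, 156), (62, 157), (110, 158), (107, 159), (121, 159), (121,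 160), (132, 159), (132, 160), (132, 161), (132, 162)]

/-- Transversal indices: position, entry. -/
def chain : List (List (Nat × Nat)) :=
  [[(0, 0), (1, 4), (2, 14), (3, 26), (4, 12), (5, 24), (6, 16), (7, 27), (8, 34), (9, 31), (10, 33), (11, 17), (12, 28), (13, 32), (14, 13), (15, 25), (16, 30), (17, 15), (18, 10), (19, 6), (20, 29), (21, 23), (22, 11)],
   [(1, 0), (2, 19), (3, 51), (4, 18), (5, 60), (6, 9), (7, 48), (8, 40), (9, 38), (10, 47), (11, 46), (12, 39), (13, 42), (14, 54), (15, 53), (16, 41), (17, 49), (18, 2), (19, 45), (20, 52), (21, 44), (22, 50)],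
   [(2, 0), (3, 63), (4, 84), (5, 72), (6, 74), (7, 61), (8, 75), (9, 65), (10, 77), (11, 78), (12, 87), (13, 90), (14, 62), (15, 89), (16, 86), (17, 76), (18, 73), (19, 64), (20, 59), (21, 85), (22, 88)],
   [(3, 0), (4, 95), (5, 112), (6, 96), (7, 108), (8, 114), (9, 93), (10, 101), (11, 100), (12, 83), (13, 92), (14, 110), (15, 94), (16, 99), (17, 109), (18, 97), (19, 91), (20, 113), (21, 98), (22, 111)],
   [(5, 0), (14, 71), (17, 70)],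
   [(4, 0), (6, 132), (7, 122), (8, 121), (9, 165), (10, 160), (11, 164), (12, 161), (13, 166), (15, 107), (16, 159), (18, 133), (19, 162), (20, 134), (21, 163), (22, 135)]]

/-- A certificate for one triple. -/
structure Cert where
  p : Nat
  q : Nat
  r : Nat
  x : List Nat
  y : List Nat
  prog : List (Nat × Nat)
  a : Nat
  b : Nat

/-- The certificates. -/
def certs : List Cert :=
  [⟨2, 5, 11, [21, 10, 2, 9, 4, 5, 12, 13, 8, 3, 1, 20, 6, 7, 14, 16, 15, 19, 18, 17, 11, 0, 22, 23], [17, 8, 20, 3, 9, 4, 10, 7, 22, 0, 21, 11, 18, 14, 6, 16, 12, 5, 19, 15, 1, 13, 2, 23], [(1, 0), (2, 0), (2, 1), (2, 5), (3, 6), (4, 7), (3, 8), (2, 9), (2, 10), (3, 11), (2, 12), (3, 13), (2, 14), (3, 15), (2, 16), (3, 17), (4, 18), (3, 19), (4, 20), (3, 21), (4, 22), (3, 23), (4, 24), (4, 25), (3, 4), (4, 27), (3, 28), (2, 29), (2, 30),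 (3, 31), (4, 32), (3, 33), (4, 34), (3, 35), (4, 36), (3, 37), (2, 38), (3, 39), (2, 40), (2, 41), (3, 42), (2, 43), (3, 44), (2, 45), (2, 46), (3, 47), (2, 48), (2, 49), (3, 50), (4, 51), (3, 52), (2, 53)], 26, 54⟩,
   ⟨2, 5, 23, [18, 4, 9, 17, 1, 19, 6, 7, 22, 2, 10, 11, 15, 13, 14, 12, 20, 3, 0, 5, 16, 21, 8, 23], [7, 1, 15, 20, 17, 18, 22, 6, 8, 10, 3, 5, 0, 2, 21, 14, 16, 11, 4, 9, 19, 13, 12, 23], [(1, 0), (2, 0), (2, 1), (3, 5), (2, 6), (2, 7), (3, 8), (2, 9), (3, 10), (2, 11), (3, 12), (4, 13), (3, 14), (4, 15), (3, 16), (2, 17), (2, 18), (3, 19), (4, 20), (3, 21), (2, 22), (3, 23), (2, 24), (2, 25), (3, 26), (2, 27), (4, 1), (4, 29), (3, 30), (2, 31), (3, 32), (2, 33), (2, 34), (3, 35), (2, 36), (3, 37), (4, 38), (3, 39), (4, 40), (3, 41), (4, 42), (4, 43), (3, 44), (2, 45), (3, 46), (2, 47), (3, 48), (4, 49),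 (3, 50), (4, 51), (4, 52)], 28, 53⟩,
   ⟨2, 7, 7, [7, 12, 4, 10, 2, 5, 16, 0, 22, 15, 3, 19, 1, 13, 14, 9, 6, 17, 18, 11, 20, 21, 8, 23], [19, 21, 2, 4, 12, 18, 5, 9, 0, 15, 17, 6, 7, 22, 11, 20, 16, 13, 1, 10, 3, 14, 8, 23], [(1, 0), (2, 0), (2, 4), (2, 5), (3, 6), (2, 7), (3, 8), (2, 9), (2, 10), (3, 11), (2, 12), (3, 13), (2, 14), (2, 15), (3, 16), (4, 17), (4, 18), (4, 19), (3, 20), (2, 21), (3, 22), (2, 23), (2, 24), (3, 25), (4, 26), (3, 27), (2, 28), (3, 29), (4, 2), (3, 31), (4, 32), (3, 33), (2, 34), (3, 35), (2, 36), (2, 37), (3, 38), (4, 39), (3, 40), (2, 41), (2, 42), (3, 43), (4, 44), (4, 45), (4, 46), (3, 47), (4, 48), (3, 49), (2, 50), (2, 51)], 30, 52⟩,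
   ⟨2, 7, 11, [0, 18, 2, 4, 3, 20, 6, 14, 8, 21, 16, 12, 11, 19, 7, 15, 10, 17, 1, 13, 5, 9, 22, 23], [1, 20, 6, 3, 17, 9, 4, 7, 19, 22, 0, 12, 15, 11, 21, 5, 2, 14, 8, 10, 18, 16, 13, 23], [(1, 0), (2, 0), (3, 2), (2, 5), (2, 6), (2, 7), (3, 8), (4, 9), (3, 10), (2, 11), (3, 12), (4, 13), (3, 14), (4, 15), (3, 16), (2, 17), (3, 18), (4, 19), (3, 20), (4, 21), (4, 22), (3, 23), (2, 24), (4, 5), (4, 26), (3, 27), (4, 28), (3, 29), (2, 30), (3, 31), (2, 32), (3, 33), (2, 34), (3, 35), (2, 36), (3, 37), (2, 38), (3, 39), (4, 40), (4, 41), (3, 42), (2, 43), (2, 44)], 25, 45⟩,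
   ⟨2, 7, 23, [13, 1, 7, 3, 14, 21, 10, 2, 8, 9, 6, 11, 16, 0, 4, 15, 12, 17, 19, 18, 22, 5, 20, 23], [0, 17, 4, 6, 5, 9, 20, 18, 10, 11, 14, 16, 15, 19, 1, 8, 21, 12, 3, 7, 13, 2, 22, 23], [(1, 0), (2, 0), (3, 4), (2, 5), (3, 6), (2, 7), (2, 8), (3, 9), (2, 10), (3, 11), (2, 12), (2, 13), (2, 14), (3, 15), (4, 16), (4, 17), (4, 18), (3, 19), (4, 20), (3, 21), (4, 22), (3, 23), (2, 24), (3, 25), (3, 2), (2, 27), (3, 28), (2, 29), (3, 30), (4, 31), (3, 32), (4, 33), (3, 34), (4, 35), (4, 36), (3, 37), (4, 38), (4, 39), (4, 40), (3, 41), (2, 42), (3, 43), (4, 44), (3, 45), (2, 46), (2, 47), (3, 48)], 26, 49⟩,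
   ⟨2, 11, 11, [0, 1, 22, 19, 4, 8, 12, 15, 5, 17, 10, 20, 6, 16, 14, 7, 13, 9, 18, 3, 11, 21, 2, 23], [9, 13, 12, 17, 0, 7, 2, 19, 4, 6, 5, 22, 14, 15, 11, 10, 8, 18, 21, 3, 20, 1, 16, 23], [(1, 0), (2, 0), (2, 1), (3, 5), (4, 6), (3, 7), (4, 8), (3, 9), (4, 10), (4, 11), (3, 12), (4, 13), (4, 14), (4, 15), (3, 16), (4, 17), (3, 18), (4, 19), (4, 20), (3, 21), (4, 22), (3, 23), (4, 24), (3, 2), (4, 26), (3, 27), (4, 28), (4, 29), (4, 30), (3, 31), (4, 32), (4, 33), (3, 34), (2, 35), (2, 36), (3, 37), (2, 38), (2, 39), (3, 40), (2, 41), (3, 42), (2, 43), (3, 44), (2, 45)], 25, 46⟩,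
   ⟨2, 11, 23, [0, 2, 1, 3, 12, 5, 19, 7, 22, 15, 10, 16, 4, 18, 17, 9, 11, 14, 13, 6, 20, 21, 8, 23], [15, 1, 19, 6, 16, 20, 22, 5, 13, 10, 7, 0, 18, 9, 12, 3, 21, 8, 17, 11, 14, 2, 4, 23], [(1, 0), (2, 0), (4, 2), (3, 5), (2, 6), (2, 7), (3, 8), (2, 9), (3, 10), (4, 11), (4, 12), (3, 13), (2, 14), (3, 15), (2, 16), (3, 17), (4, 18), (3, 19), (2, 20), (2, 21), (2, 22), (2, 23), (4, 6), (3, 25), (4, 26), (3, 27), (4, 28), (3, 29), (4, 30), (4, 31), (4, 32), (3, 33), (4, 34), (3, 35), (2, 36), (3, 37), (4, 38), (4, 39), (4, 40), (4, 41), (3, 42), (4, 43), (4, 44)], 24, 45⟩,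
   ⟨2, 23, 23, [4, 7, 2, 3, 0, 5, 11, 1, 8, 21, 10, 6, 12, 18, 19, 15, 17, 16, 13, 14, 22, 9, 20, 23], [5, 8, 0, 6, 1, 12, 10, 17, 22, 20, 19, 16, 11, 7, 21, 13, 4, 14, 3, 9, 2, 18, 15, 23], [(1, 0), (2, 0), (2, 1), (3, 5), (4, 6), (4, 7), (4, 8), (3, 9), (4, 10), (3, 11), (4, 12), (4, 13), (4, 14), (4, 15), (3, 16), (2, 17), (2, 18), (3, 19), (4, 20), (3, 21), (2, 22), (2, 23), (2, 24), (3, 25), (3, 4), (2, 27), (2, 28), (3, 29), (4, 30), (4, 31), (4, 32), (4, 33), (3, 34), (4, 35), (4, 36), (3, 37), (2, 38), (2, 39), (3, 40), (4, 41), (3, 42)], 26, 43⟩,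
   ⟨3, 3, 11, [15, 21, 4, 3, 12, 5, 6, 13, 7, 9, 16, 22, 2, 8, 14, 19, 18, 11, 10, 0, 1, 20, 17, 23], [0, 1, 13, 18, 9, 19, 4, 22, 14, 6, 10, 7, 12, 21, 15, 8, 5, 17, 20, 16, 3, 2, 11, 23], [(1, 0), (2, 0), (1, 4), (2, 5), (1, 6), (2, 7), (1, 8), (4, 9), (3, 10), (2, 11), (3, 12), (4, 13), (1, 14), (2, 15), (3, 16), (2, 17), (1, 18), (2, 19), (1, 20), (4, 21), (3, 22), (2, 23), (2, 1), (3, 25), (4, 26), (1, 27), (4, 28), (1, 29), (4, 30), (3, 31), (2, 32), (3, 33), (4, 34), (3, 35), (2, 36), (3, 37), (2, 38), (3, 39)], 24, 40⟩,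
   ⟨3, 3, 23, [15, 20, 0, 11, 14, 5, 22, 7, 6, 1, 10, 13, 4, 3, 12, 2, 18, 17, 21, 19, 9, 16, 8, 23], [22, 1, 10, 11, 9, 0, 6, 14, 8, 13, 21, 16, 15, 4, 17, 19, 3, 7, 18, 12, 20, 2, 5, 23], [(1, 0), (2, 0), (3, 2), (2, 5), (3, 6), (2, 7), (3, 8), (2, 9), (1, 10), (4, 11), (3, 12), (2, 13), (1, 14), (2, 15), (3, 16), (4, 17), (3, 18), (2, 19), (2, 1), (3, 21), (2, 22), (3, 23), (2, 24), (3, 25), (2, 26), (3, 27), (4, 28), (3, 29), (2, 30), (3, 31), (4, 32), (1, 33), (4, 34), (1, 35), (2, 36), (3, 37), (2, 38), (3, 39), (4, 40)], 20, 41⟩,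
   ⟨3, 5, 5, [0, 17, 7, 5, 22, 6, 3, 8, 2, 9, 14, 4, 20, 1, 16, 15, 10, 13, 18, 19, 21, 12, 11, 23], [20, 22, 8, 19, 4, 11, 15, 5, 7, 14, 16, 2, 1, 0, 18, 13, 12, 17, 3, 9, 6, 21, 10, 23], [(1, 0), (2, 0), (4, 1), (1, 5), (2, 6), (1, 7), (4, 8), (3, 9), (2, 10), (1, 11), (2, 12), (2, 13), (3, 14), (2, 15), (3, 16), (2, 17), (1, 18), (4, 19), (3, 20), (1, 2), (4, 22), (1, 23), (4, 24), (4, 25), (1, 26), (2, 27), (1, 28), (4, 29), (3, 30), (2, 31), (3, 32), (2, 33), (1, 34), (4, 35), (3, 36), (2, 37)], 21, 38⟩,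
   ⟨3, 5, 7, [0, 15, 14, 7, 16, 9, 4, 12, 8, 10, 5, 20, 3, 1, 21, 13, 6, 17, 18, 19, 22, 2, 11, 23], [11, 12, 6, 3, 17, 5, 14, 20, 0, 21, 9, 22, 19, 10, 7, 15, 8, 1, 13, 4, 2, 18, 16, 23], [(1, 0), (2, 0), (2, 1), (2, 5), (3, 6), (4, 7), (4, 8), (3, 9), (2, 10), (1, 11), (2, 12), (3, 13), (4, 14), (1, 15), (2, 16), (3, 17), (2, 18), (3, 19), (4, 20), (3, 21), (1, 2), (2, 23), (3, 24), (4, 25), (4, 26), (1, 27), (4, 28), (1, 29), (2, 30), (3, 31), (2, 32), (3, 33), (2, 34), (1, 35), (4, 36), (1, 37), (4, 38), (3, 39)], 22, 40⟩,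
   ⟨3, 5, 11, [19, 11, 14, 10, 2, 22, 17, 1, 5, 9, 13, 7, 0, 3, 4, 15, 6, 16, 18, 12, 20, 21, 8, 23], [7, 4, 3, 0, 21, 22, 9, 15, 10, 5, 19, 11, 18, 13, 14, 2, 1, 6, 8, 12, 16, 20, 17, 23], [(1, 0), (2, 0), (1, 2), (2, 5), (2, 6), (3, 7), (4, 8), (3, 9), (2, 10), (1, 11), (4, 12), (1, 13), (4, 14), (1, 15), (2, 16), (3, 17), (2, 18), (4, 3), (3, 20), (4, 21), (4, 22), (1, 23), (4, 24), (4, 25), (3, 26), (4, 27), (3, 28), (4, 29), (4, 30)], 19, 31⟩,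
   ⟨3, 5, 23, [1, 13, 16, 8, 2, 11, 3, 20, 6, 9, 10, 21, 12, 0, 7, 17, 4, 19, 18, 15, 14, 5, 22, 23], [11, 10, 0, 3, 6, 14, 1, 7, 21, 18, 16, 15, 19, 2, 12, 13, 4, 9, 8, 22, 20, 17, 5, 23], [(1, 0), (2, 0), (2, 4), (3, 5), (2, 6), (2, 7), (3, 8), (2, 9), (1, 10), (2, 11), (2, 12), (3, 13), (4, 14), (1, 15), (4, 16), (3, 17), (2, 3), (2, 19), (3, 20), (2, 21), (1, 22), (4, 23), (1, 24), (4, 25), (4, 26), (1, 27), (4, 28), (3, 29), (4, 30), (4, 31), (3, 32), (4, 33), (4, 34)], 18, 35⟩,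
   ⟨3, 7, 7, [16, 17, 6, 0, 19, 5, 20, 15, 8, 4, 21, 11, 12, 1, 7, 14, 3, 13, 10, 9, 2, 18, 22, 23], [3, 7, 1, 10, 16, 19, 6, 5, 2, 21, 17, 22, 8, 9, 14, 4, 0, 15, 20, 12, 13, 11, 18, 23], [(1, 0), (2, 0), (1, 4), (2, 5), (1, 6), (4, 7), (1, 8), (4, 9), (4, 10), (4, 11), (3, 12), (2, 13), (3, 14), (4, 15), (3, 16), (4, 17), (4, 18), (1, 19), (4, 1), (4, 21), (3, 22), (4, 23), (3, 24), (4, 25), (1, 26), (4, 27), (3, 28), (2, 29), (3, 30), (2, 31), (1, 32), (4, 33), (1, 34), (4, 35), (4, 36)], 20, 37⟩,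
   ⟨3, 7, 11, [21, 5, 10, 16, 6, 13, 14, 2, 22, 0, 7, 11, 12, 1, 4, 3, 15, 8, 18, 19, 20, 9, 17, 23], [16, 1, 12, 4, 22, 8, 19, 10, 15, 6, 21, 2, 17, 9, 14, 18, 20, 3, 7, 0, 13, 5, 11, 23], [(1, 0), (2, 0), (2, 3), (2, 5), (1, 6), (2, 7), (3, 8), (2, 9), (3, 10), (2, 11), (3, 12), (4, 13), (3, 14), (4, 15), (3, 16), (4, 17), (1, 18), (2, 19), (2, 20), (1, 2), (4, 22), (4, 23), (3, 24), (4, 25), (4, 26), (4, 27), (1, 28), (2, 29), (3, 30), (4, 31), (3, 32), (4, 33), (4, 34), (1, 35), (2, 36), (2, 37)], 21, 38⟩,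
   ⟨3, 7, 23, [14, 9, 12, 16, 4, 7, 10, 11, 1, 8, 17, 5, 15, 13, 19, 2, 21, 6, 18, 0, 20, 3, 22, 23], [22, 7, 11, 20, 19, 5, 2, 6, 8, 17, 1, 15, 14, 3, 4, 10, 21, 13, 12, 16, 0, 18, 9, 23], [(1, 0), (2, 0), (2, 1), (2, 5), (1, 6), (2, 7), (3, 8), (4, 9), (3, 10), (4, 11), (1, 12), (4, 13), (1, 14), (2, 15), (2, 16), (3, 17), (4, 18), (1, 19), (4, 20), (4, 21), (4, 7), (1, 23), (2, 24), (3, 25), (4, 26), (1, 27), (4, 28), (1, 29), (4, 30), (4, 31), (3, 32), (4, 33), (4, 34), (4, 35)], 22, 36⟩,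
   ⟨3, 11, 11, [13, 1, 10, 5, 4, 18, 22, 20, 8, 16, 17, 6, 0, 12, 7, 9, 15, 2, 3, 19, 14, 21, 11, 23], [10, 12, 14, 4, 16, 5, 3, 0, 19, 22, 6, 18, 13, 21, 17, 1, 20, 7, 8, 9, 2, 11, 15, 23], [(1, 0), (2, 0), (1, 2), (4, 5), (4, 6), (4, 7), (4, 8), (1, 9), (2, 10), (2, 11), (3, 12), (2, 13), (3, 14), (4, 15), (1, 16), (4, 17), (3, 18), (2, 3), (1, 20), (4, 21), (4, 22), (3, 23), (4, 24), (4, 25), (4, 26), (3, 27), (4, 28), (1, 29), (2, 30), (3, 31), (2, 32), (2, 33)], 19, 34⟩,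
   ⟨3, 11, 23, [20, 12, 2, 6, 18, 3, 5, 1, 10, 8, 9, 11, 7, 13, 0, 17, 15, 16, 19, 4, 14, 21, 22, 23], [1, 11, 14, 15, 10, 16, 17, 21, 3, 7, 9, 13, 22, 8, 6, 2, 20, 0, 18, 12, 4, 19, 5, 23], [(1, 0), (2, 0), (4, 1), (4, 5), (1, 6), (4, 7), (3, 8), (4, 9), (3, 10), (4, 11), (4, 12), (4, 13), (4, 14), (3, 15), (2, 16), (3, 17), (2, 18), (3, 19), (2, 20), (4, 2), (3, 22), (2, 23), (1, 24), (4, 25), (4, 26), (3, 27), (2, 28), (1, 29), (2, 30), (3, 31), (4, 32), (1, 33)], 21, 34⟩,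
   ⟨3, 23, 23, [12, 9, 2, 3, 7, 13, 6, 11, 18, 14, 8, 4, 16, 22, 1, 17, 0, 19, 10, 15, 20, 21, 5, 23], [17, 20, 3, 1, 19, 10, 11, 14, 6, 22, 13, 5, 8, 2, 12, 0, 15, 18, 4, 7, 9, 16, 21, 23], [(1, 0), (2, 0), (2, 4), (2, 5), (2, 6), (2, 7), (3, 8), (4, 9), (1, 10), (4, 11), (4, 12), (3, 13), (2, 14), (1, 15), (2, 16), (2, 17), (1, 18), (2, 19), (4, 2), (4, 21), (3, 22), (4, 23), (1, 24), (4, 25), (4, 26), (3, 27), (4, 28), (4, 29), (4, 30)], 20, 31⟩,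
   ⟨5, 5, 5, [4, 10, 3, 20, 17, 2, 12, 19, 8, 5, 22, 11, 7, 0, 13, 1, 15, 14, 18, 21, 9, 6, 16, 23], [21, 1, 11, 6, 0, 8, 15, 20, 17, 3, 10, 19, 12, 5, 4, 16, 9, 22, 14, 7, 2, 18, 13, 23], [(1, 0), (2, 0), (3, 4), (3, 5), (2, 6), (1, 7), (4, 8), (1, 9), (4, 10), (1, 11), (4, 12), (1, 13), (2, 14), (3, 15), (4, 16), (1, 17), (4, 3), (1, 19), (4, 20), (3, 21), (4, 22), (3, 23), (2, 24), (3, 25), (2, 26), (3, 27), (3, 28), (4, 29)], 18, 30⟩,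
   ⟨5, 5, 7, [12, 18, 2, 10, 17, 9, 14, 7, 13, 0, 8, 20, 22, 19, 4, 11, 6, 16, 15, 3, 1, 21, 5, 23], [22, 3, 16, 9, 0, 2, 1, 19, 10, 21, 4, 13, 12, 5, 14, 18, 11, 15, 7, 17, 20, 6, 8, 23], [(1, 0), (2, 0), (4, 3), (3, 5), (3, 6), (2, 7), (2, 8), (3, 9), (3, 10), (4, 11), (1, 12), (1, 13), (4, 14), (3, 15), (4, 16), (3, 17), (2, 18), (3, 19), (4, 5), (3, 21), (2, 22), (3, 23), (2, 24), (2, 25), (3, 26), (3, 27), (4, 28), (1, 29), (4, 30), (3, 31), (3, 32), (2, 33)], 20, 34⟩,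
   ⟨5, 5, 11, [20, 9, 2, 4, 17, 6, 13, 16, 18, 0, 1, 11, 3, 8, 19, 15, 14, 22, 5, 21, 10, 7, 12, 23], [10, 21, 15, 6, 3, 5, 8, 0, 20, 22, 2, 12, 14, 18, 1, 7, 9, 17, 16, 19, 4, 11, 13, 23], [(1, 0), (2, 0), (1, 4), (1, 5), (2, 6), (1, 7), (1, 8), (4, 9), (4, 10), (3, 11), (4, 12), (1, 13), (2, 14), (2, 15), (3, 16), (4, 17), (3, 18), (3, 19), (3, 1), (2, 21), (2, 22), (1, 23), (1, 24), (2, 25), (2, 26), (1, 27), (1, 28), (2, 29), (2, 30), (3, 31), (4, 32), (3, 33), (2, 34)], 20, 35⟩,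
   ⟨5, 5, 23, [4, 3, 11, 14, 6, 5, 2, 17, 20, 18, 10, 0, 1, 13, 21, 8, 9, 15, 19, 22, 7, 12, 16, 23], [5, 6, 19, 13, 16, 4, 2, 12, 22, 9, 3, 7, 8, 21, 14, 15, 20, 1, 10, 17, 0, 18, 11, 23], [(1, 0), (2, 0), (4, 1), (4, 5), (1, 6), (2, 7), (2, 8), (1, 9), (2, 10), (3, 11), (2, 12), (3, 13), (4, 14), (3, 15), (3, 16), (2, 17), (3, 18), (4, 19), (4, 20), (4, 3), (1, 22), (1, 23), (4, 24), (3, 25), (4, 26), (3, 27), (3, 28), (4, 29), (1, 30), (4, 31), (3, 32), (4, 33)], 21, 34⟩,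
   ⟨5, 7, 7, [10, 13, 20, 7, 3, 8, 19, 1, 0, 5, 9, 16, 11, 4, 15, 6, 2, 17, 18, 22, 12, 21, 14, 23], [5, 10, 16, 4, 18, 13, 9, 7, 1, 17, 22, 19, 0, 3, 21, 2, 14, 8, 12, 15, 20, 11, 6, 23], [(1, 0), (2, 0), (4, 3), (3, 5), (2, 6), (2, 7), (1, 8), (2, 9), (2, 10), (3, 11), (2, 12), (1, 13), (1, 14), (4, 15), (1, 16), (3, 4), (2, 18), (2, 19), (3, 20), (2, 21), (2, 22), (3, 23), (4, 24), (1, 25), (1, 26), (2, 27), (1, 28), (4, 29)], 17, 30⟩,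
   ⟨5, 7, 11, [7, 10, 11, 0, 21, 22, 19, 2, 4, 16, 9, 3, 18, 13, 1, 15, 14, 17, 8, 20, 5, 12, 6, 23], [3, 21, 22, 17, 13, 8, 15, 12, 20, 9, 19, 4, 18, 2, 14, 11, 5, 10, 16, 1, 7, 0, 6, 23], [(1, 0), (2, 0), (3, 2), (4, 5), (3, 6), (3, 7), (4, 8), (3, 9), (4, 10), (1, 11), (2, 12), (3, 13), (4, 14), (4, 15), (3, 16), (3, 17), (2, 18), (4, 1), (1, 20), (4, 21), (4, 22), (3, 23), (4, 24), (4, 25), (1, 26), (1, 27), (2, 28), (3, 29), (2, 30), (3, 31), (2, 32), (1, 33)], 19, 34⟩,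
   ⟨5, 7, 23, [8, 2, 6, 22, 4, 15, 9, 16, 11, 21, 10, 14, 3, 13, 17, 20, 12, 0, 19, 5, 18, 1, 7, 23], [22, 3, 16, 13, 9, 10, 6, 1, 5, 18, 21, 0, 8, 2, 7, 4, 14, 12, 11, 17, 20, 19, 15, 23], [(1, 0), (2, 0), (4, 2), (4, 5), (3, 6), (3, 7), (2, 8), (2, 9), (2, 10), (1, 11), (4, 12), (3, 13), (4, 14), (3, 15), (4, 16), (1, 17), (2, 1), (1, 19), (2, 20), (3, 21), (4, 22), (1, 23), (1, 24), (2, 25), (2, 26), (3, 27), (4, 28), (4, 29), (1, 30)], 18, 31⟩,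
   ⟨5, 11, 11, [0, 11, 19, 7, 8, 18, 16, 2, 12, 3, 4, 6, 22, 21, 14, 1, 15, 5, 13, 9, 20, 17, 10, 23], [11, 13, 7, 0, 12, 3, 1, 8, 21, 4, 5, 6, 10, 9, 2, 20, 17, 15, 14, 19, 22, 16, 18, 23], [(1, 0), (2, 0), (3, 1), (2, 5), (2, 6), (1, 7), (1, 8), (2, 9), (1, 10), (4, 11), (1, 12), (4, 13), (4, 14), (3, 15), (3, 16), (4, 5), (4, 18), (3, 19), (4, 20), (1, 21), (1, 22), (2, 23), (3, 24), (3, 25), (2, 26), (2, 27), (3, 28)], 17, 29⟩,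
   ⟨5, 11, 23, [0, 3, 20, 15, 6, 14, 10, 7, 4, 13, 17, 19, 1, 16, 18, 22, 2, 8, 11, 5, 9, 21, 12, 23], [6, 8, 2, 5, 14, 9, 18, 10, 15, 7, 13, 0, 17, 11, 16, 4, 19, 1, 22, 21, 12, 20, 3, 23], [(1, 0), (2, 0), (2, 3), (2, 5), (1, 6), (2, 7), (2, 8), (2, 9), (3, 10), (4, 11), (4, 12), (4, 13), (1, 14), (2, 15), (3, 16), (4, 1), (3, 18), (4, 19), (1, 20), (2, 21), (1, 22), (1, 23), (4, 24), (3, 25)], 17, 26⟩,
   ⟨5, 23, 23, [18, 12, 10, 3, 5, 1, 2, 9, 14, 6, 7, 13, 19, 21, 20, 15, 22, 17, 8, 4, 0, 16, 11, 23], [11, 17, 1, 22, 9, 7, 2, 13, 12, 16, 4, 14, 19, 3, 10, 18, 15, 0, 21, 6, 5, 20, 8, 23], [(1, 0), (2, 0), (4, 3), (4, 5), (3, 6), (2, 7), (3, 8), (3, 9), (4, 10), (4, 11), (1, 12), (2, 13), (1, 14), (2, 15), (2, 16), (3, 17), (3, 2), (3, 19), (4, 20), (1, 21), (4, 22), (3, 23), (4, 24), (3, 25), (4, 26), (1, 27), (2,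 28), (2, 29), (2, 30), (3, 31), (4, 32)], 18, 33⟩,
   ⟨7, 7, 7, [20, 1, 8, 21, 14, 16, 13, 18, 19, 7, 22, 6, 12, 10, 17, 2, 11, 0, 15, 9, 3, 4, 5, 23], [17, 4, 2, 11, 14, 12, 9, 5, 10, 18, 20, 8, 19, 21, 22, 7, 16, 3, 1, 13, 0, 15, 6, 23], [(1, 0), (2, 0), (1, 2), (1, 5), (2, 6), (2, 7), (2, 8), (1, 9), (2, 10), (3, 11), (4, 12), (3, 13), (4, 14), (4, 15), (3, 16), (3, 17), (3, 1), (4, 19), (1, 20), (4, 21), (3, 22), (4, 23), (4, 24), (1, 25), (2, 26), (3, 27), (2, 28), (2, 29), (2, 30), (3, 31), (3, 32)], 18, 33⟩,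
   ⟨7, 7, 11, [15, 14, 5, 16, 1, 19, 22, 10, 3, 20, 2, 11, 4, 9, 8, 7, 12, 17, 21, 0, 6, 13, 18, 23], [18, 8, 5, 17, 11, 10, 21, 3, 4, 16, 12, 22, 14, 15, 0, 7, 13, 9, 2, 19, 20, 1, 6, 23], [(1, 0), (2, 0), (2, 4), (3, 5), (3, 6), (2, 7), (2, 8), (1, 9), (2, 10), (1, 11), (2, 12), (1, 13), (2, 14), (1, 15), (2, 16), (4, 1), (4, 18), (1, 19), (2, 20), (1, 21), (4, 22), (4, 23), (3, 24), (4, 25), (1, 26), (2, 27), (3, 28), (2, 29), (3, 30)], 17, 31⟩,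
   ⟨7, 7, 23, [11, 13, 22, 9, 14, 8, 12, 0, 17, 5, 7, 15, 16, 18, 10, 4, 1, 2, 21, 19, 20, 6, 3, 23], [19, 3, 2, 17, 7, 15, 9, 1, 14, 22, 18, 8, 11, 4, 20, 10, 16, 21, 6, 12, 0, 13, 5, 23], [(1, 0), (2, 0), (3, 4), (3, 5), (4, 6), (3, 7), (3, 8), (4, 9), (4, 10), (1, 11), (4, 12), (3, 13), (4, 14), (4, 15), (1, 16), (4, 17), (1, 3), (2, 19), (3, 20), (2, 21), (1, 22), (1, 23), (2, 24), (3, 25), (2, 26), (3, 27)], 18, 28⟩,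
   ⟨7, 11, 11, [16, 19, 14, 1, 3, 20, 7, 9, 8, 4, 11, 17, 5, 13, 18, 10, 21, 2, 15, 6, 22, 12, 0, 23], [7, 4, 13, 6, 19, 8, 1, 21, 20, 18, 16, 11, 22, 10, 2, 14, 9, 12, 5, 17, 15, 3, 0, 23], [(1, 0), (2, 0), (1, 2), (2, 5), (2, 6), (1, 7), (4, 8), (3, 9), (2, 10), (2, 11), (1, 12), (1, 13), (2, 14), (2, 15), (3, 16), (2, 1), (2, 18), (1, 19), (2, 20), (2, 21), (1, 22), (1, 23), (2, 24), (1, 25), (1, 26), (2, 27), (3, 28), (4, 29), (4, 30)], 17, 31⟩,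
   ⟨7, 11, 23, [16, 10, 11, 9, 19, 7, 1, 21, 17, 0, 13, 8, 12, 14, 15, 18, 22, 5, 6, 3, 20, 2, 4, 23], [20, 2, 10, 15, 18, 0, 11, 7, 4, 5, 16, 13, 3, 8, 1, 17, 6, 9, 14, 12, 22, 19, 21, 23], [(1, 0), (2, 0), (1, 2), (4, 5), (3, 6), (2, 7), (2, 8), (2, 9), (1, 10), (2, 11), (2, 12), (2, 13), (3, 14), (3, 15), (4, 1), (1, 17), (4, 18), (3, 19), (3, 20), (3, 21), (4, 22), (4, 23), (4, 24), (4, 25), (1, 26), (4, 27), (1, 28), (1, 29), (4, 30)], 16, 31⟩,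
   ⟨7, 23, 23, [2, 4, 20, 3, 15, 10, 9, 22, 21, 17, 0, 1, 5, 8, 14, 7, 11, 13, 12, 6, 18, 19, 16, 23], [19, 16, 3, 7, 10, 4, 12, 11, 14, 1, 6, 21, 0, 9, 2, 22, 8, 5, 13, 18, 17, 15, 20, 23], [(1, 0), (2, 0), (2, 3), (1, 5), (1, 6), (2, 7), (2, 8), (1, 9), (1, 10), (1, 11), (2, 12), (1, 13), (4, 14), (1, 15), (2, 16), (3, 17), (2, 5), (1, 19), (4, 20), (3, 21), (4, 22), (3, 23), (4, 24), (3, 25), (2, 26), (1, 27), (4, 28), (3, 29)], 18, 30⟩,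
   ⟨11, 11, 11, [16, 19, 0, 7, 13, 22, 4, 18, 5, 17, 2, 1, 12, 3, 15, 9, 21, 20, 10, 8, 11, 6, 14, 23], [12, 5, 14, 13, 20, 2, 17, 4, 1, 0, 8, 9, 15, 22, 16, 21, 3, 11, 18, 10, 6, 7, 19, 23], [(1, 0), (2, 0), (2, 1), (2, 5), (2, 6), (2, 7), (3, 8), (3, 9), (2, 10), (1, 11), (4, 12), (3, 13), (4, 14), (4, 15), (1, 2), (1, 17), (4, 18), (1, 19), (2, 20), (2, 21), (3, 22), (2, 23), (2, 24), (3, 25), (2, 26), (1, 27), (1, 28)], 16, 29⟩,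
   ⟨11, 11, 23, [1, 7, 0, 13, 22, 20, 18, 3, 2, 4, 5, 6, 19, 10, 14, 8, 17, 12, 21, 9, 15, 16, 11, 23], [7, 6, 11, 10, 4, 21, 0, 9, 18, 3, 12, 16, 22, 15, 13, 5, 17, 14, 2, 20, 1, 8, 19, 23], [(1, 0), (2, 0), (2, 4), (1, 5), (4, 6), (4, 7), (1, 8), (4, 9), (1, 10), (4, 11), (1, 12), (2, 13), (2, 14), (2, 15), (3, 16), (4, 17), (2, 3), (1, 19), (2, 20), (1, 21), (2, 22), (1, 23), (1, 24), (4, 25), (4, 26), (3, 27), (4, 28), (3, 29), (4, 30), (1, 31)], 18, 32⟩,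
   ⟨11, 23, 23, [17, 10, 7, 4, 1, 14, 6, 9, 13, 21, 18, 8, 15, 22, 12, 16, 11, 5, 20, 2, 19, 3, 0, 23], [2, 14, 13, 0, 19, 18, 21, 1, 20, 5, 11, 4, 10, 22, 6, 16, 17, 9, 3, 15, 12, 8, 7, 23], [(1, 0), (2, 0), (2, 3), (1, 5), (2, 6), (1, 7), (2, 8), (3, 9), (4, 10), (1, 11), (2, 12), (2, 13), (3, 14), (3, 15), (3, 16), (4, 17), (2, 1), (1, 19), (2, 20), (2, 21), (2, 22), (3, 23), (2, 24), (2, 25), (1, 26), (4, 27), (4, 28), (3, 29), (3, 30), (3, 31)], 18, 32⟩,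
   ⟨23, 23, 23, [18, 0, 1, 8, 21, 2, 17, 15, 5, 3, 9, 22, 6, 10, 12, 16, 14, 11, 20, 13, 7, 19, 4, 23], [11, 10, 17, 5, 12, 13, 7, 1, 15, 20, 9, 18, 2, 16, 3, 4, 8, 19, 14, 22, 21, 0, 6, 23], [(1, 0), (2, 0), (4, 3), (3, 5), (3, 6), (2, 7), (1, 8), (2, 9), (2, 10), (1, 11), (1, 12), (1, 13), (2, 14), (2, 15), (4, 2), (3, 17), (2, 18), (2, 19), (3, 20), (3, 21), (2, 22), (3, 23), (3, 24), (4, 25), (1, 26), (4, 27), (4, 28)], 16, 29⟩]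

end CfsgLib.Golay.TripleGen
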