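import Mathlib.LinearAlgebra.Dual.Lemmas
import Mathlib.LinearAlgebra.FiniteDimensional.Lemmas
import Mathlib.GroupTheory.Perm.Basic
import Mathlib.Algebra.Group.Subgroup.Lattice
import Mathlib.LinearAlgebra.Pi

/-!
Scott's inequality for the permutation module with two orbits: if `x * y * z = 1` and the group
generated by `x` and `y` moves `a₀` to every point but `u`, then the numbers of cycles add up to
at most `|α| + 4`.
-/

set_option autoImplicit false
set_option linter.unusedSectionVars false

namespace CfsgLib.TripleGen

variable {α : Type*} [Fintype α] [DecidableEq α]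

/-- A permutation with at least `c` invariant classes. -/
def HasLab (σ : Equiv.Perm α) (c : ℕ) : Prop :=
  ∃ f : α → Fin c, Function.Surjective f ∧ ∀ a, f (σ a) = f a

theorem HasLab.conj {σ : Equiv.Perm α} {c : ℕ} (h : HasLab σ c) (k : Equiv.Perm α) :
    HasLab (k⁻¹ * σ * k) c := by
  obtain ⟨f, hf, hσ⟩ := h
  refine ⟨f ∘ k, hf.comp k.surjective, fun a => ?_⟩
  simp only [Function.comp_apply, Equiv.Perm.mul_apply, Equiv.Perm.inv_def, Equiv.apply_symm_apply]
  exact hσ _

/-- Composition with a permutation. -/
def act (σ : Equiv.Perm α) : (α → ℚ) →ₗ[ℚ] (α → ℚ) := LinearMap.funLeft ℚ ℚ σ.symm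

/-- The displacement map. -/
def disp (σ : Equiv.Perm α) : (α → ℚ) →ₗ[ℚ] (α → ℚ) := act σ - LinearMap.id

theorem disp_apply (σ : Equiv.Perm α) (v : α → ℚ) (a : α) :
    disp σ v a = v (σ.symm a) - v a := rfl

theorem finrank_range_disp {σ : Equiv.Perm α} {c : ℕ} (h : HasLab σ c) :
    Module.finrank ℚ (LinearMap.range (disp σ)) + c ≤ Fintype.card α := by
  obtain ⟨f, hf, hσ⟩ := h
  have h1 := LinearMap.finrank_range_add_finrank_ker (disp σ)
  rw [Module.finrank_pi] at h1
  have h2 : c ≤ Module.finrank ℚ (LinearMap.ker (disp σ)) := by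
    let L : (Fin c → ℚ) →ₗ[ℚ] LinearMap.ker (disp σ) :=
      (LinearMap.funLeft ℚ ℚ f).codRestrict _ fun w => by
        rw [LinearMap.mem_ker]
        funext a
        have hs : f (σ.symm a) = f a := by
          conv_rhs => rw [← σ.apply_symm_apply a, hσ]
        rw [disp_apply]
        simp [LinearMap.funLeft_apply, hs]
    have hL : Function.Injective L := fun a b hab => by
      funext i
      obtain ⟨x, rfl⟩ := hf i
      exact congrFun (congrArg Subtype.val hab) x
    simpa using LinearMap.finrank_le_finrank_of_injective hL
  omega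

theorem scott {x y z : Equiv.Perm α} (hxyz : x * y * z = 1) {a₀ u : α}
    (horb : ∀ a, a ≠ u → ∃ g ∈ Subgroup.closure {x, y}, g a₀ = a) {cx cy cz : ℕ}
    (hx : HasLab x cx) (hy : HasLab y cy) (hz : HasLab z cz) :
    cx + cy + cz ≤ Fintype.card α + 4 := by
  set W := LinearMap.range (disp x) × LinearMap.range (disp y) × LinearMap.range (disp z)
  -- the sum map
  let β : W →ₗ[ℚ] (α → ℚ) :=
    ((LinearMap.range (disp x)).subtype.comp (LinearMap.fst ℚ _ _)) +
      ((act x).comp ((LinearMap.range (disp y)).subtype.comp
          ((LinearMap.fst ℚ _ _).comp (LinearMap.snd ℚ _ _)))) +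
      ((act (x * y)).comp ((LinearMap.range (disp z)).subtype.comp
          ((LinearMap.snd ℚ _ _).comp (LinearMap.snd ℚ _ _))))
  let γ : (α → ℚ) →ₗ[ℚ] W := (disp x).rangeRestrict.prod ((disp y).rangeRestrict.prod (disp z).rangeRestrict)
  have hker : LinearMap.range γ ≤ LinearMap.ker β := by
    rintro _ ⟨v, rfl⟩
    rw [LinearMap.mem_ker]
    funext a
    simp only [β, γ, LinearMap.add_apply, LinearMap.comp_apply, 
      LinearMap.fst_apply, LinearMap.snd_apply, Submodule.coe_subtype, Pi.add_apply, Pi.zero_apply]
    show (v (x.symm a) - v a) + (v (y.symm (x.symm a)) - v (x.symm a)) +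
      (v (z.symm ((x * y).symm a)) - v ((x * y).symm a)) = 0
    have hz' : z.symm ((x * y).symm a) = a := by
      have h := congrArg (fun ρ : Equiv.Perm α => ρ.symm a) hxyz
      simpa [Equiv.Perm.mul_def, Equiv.Perm.one_def] using h
    rw [hz']
    simp [Equiv.Perm.mul_def]
  -- the image contains the differences
  have hdisp : ∀ g ∈ Subgroup.closure {x, y}, ∀ v, disp g v ∈ LinearMap.range β := by
    have hxm : ∀ v, disp x v ∈ LinearMap.range β := fun v =>
      ⟨(⟨_, ⟨v, rfl⟩⟩, 0, 0), by show disp x v + act x 0 + act (x * y) 0 = _; simp⟩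
    have hym : ∀ v, disp y v ∈ LinearMap.range β := fun v => by
      have h : act x (disp y v) ∈ LinearMap.range β := ⟨(0, ⟨_, ⟨v, rfl⟩⟩, 0), by show 0 + act x (disp y v) + act (x * y) 0 = _; simp⟩
      have e : disp y v = act x (disp y v) - disp x (disp y v) := by
        funext a
        show disp y v a = (disp y v) (x.symm a) - ((disp y v) (x.symm a) - disp y v a)
        ring
      rw [e]
      exact Submodule.sub_mem _ h (hxm _)
    intro g hg
    induction hg using Subgroup.closure_induction with
    | mem g hg =>
      rcases hg with rfl | rfl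
      · exact hxm
      · exact hym
    | one =>
      intro v
      rw [show disp (1 : Equiv.Perm α) v = 0 by funext a; rw [disp_apply]; simp [Equiv.Perm.one_def]]
      exact Submodule.zero_mem _
    | mul g h _ _ ihg ihh =>
      intro v
      rw [show disp (g * h) v = disp g (act h v) + disp h v by
        funext a
        show v ((g * h).symm a) - v a = (v (h.symm (g.symm a)) - v (h.symm a)) + (v (h.symm a) - v a)
        simp [Equiv.Perm.mul_def]]
      exact Submodule.add_mem _ (ihg _) (ihh _)
    | inv g _ ih =>
      intro v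
      rw [show disp g⁻¹ v = -disp g (act g⁻¹ v) by
        funext a
        show v (g⁻¹.symm a) - v a = -(v (g⁻¹.symm (g.symm a)) - v (g⁻¹.symm a))
        simp [Equiv.Perm.inv_def]]
      exact Submodule.neg_mem _ (ih _)
  -- together with two coordinate vectors it is everything
  let P : (α → ℚ) →ₗ[ℚ] (α → ℚ) ⧸ LinearMap.range β := (LinearMap.range β).mkQ
  have himg : Fintype.card α ≤ Module.finrank ℚ (LinearMap.range β) + 2 := by
    have h1 := Submodule.finrank_quotient_add_finrank (LinearMap.range β)
    rw [Module.finrank_pi] at h1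
    let L : (ℚ × ℚ) →ₗ[ℚ] (α → ℚ) ⧸ LinearMap.range β :=
      P.comp (((LinearMap.single ℚ (fun _ : α => ℚ) a₀).comp (LinearMap.fst ℚ ℚ ℚ)) +
        ((LinearMap.single ℚ (fun _ : α => ℚ) u).comp (LinearMap.snd ℚ ℚ ℚ)))
    have hsingle : ∀ a, P (Pi.single a 1) ∈ LinearMap.range L := by
      intro a
      by_cases ha : a = u
      · exact ⟨(0, 1), by simp [L, ha]⟩
      · obtain ⟨g, hg, rfl⟩ := horb a ha
        refine ⟨(1, 0), ?_⟩
        have e : disp g (Pi.single a₀ 1) = Pi.single (g a₀) 1 - Pi.single a₀ 1 := by
          funext b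
          rw [disp_apply, Pi.sub_apply]
          simp only [Pi.single_apply, Equiv.symm_apply_eq]
        have hm := hdisp g hg (Pi.single a₀ 1)
        rw [e] at hm
        simp only [L, LinearMap.comp_apply, LinearMap.add_apply, LinearMap.fst_apply,
          LinearMap.snd_apply, map_zero, add_zero]
        exact (Submodule.Quotient.eq _).2 (by simpa using Submodule.neg_mem _ hm)
    have hsurj : Function.Surjective L := by
      rw [← LinearMap.range_eq_top, eq_top_iff]
      rintro w -
      obtain ⟨v, rfl⟩ := Submodule.mkQ_surjective _ w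
      rw [pi_eq_sum_univ v, map_sum]
      refine Submodule.sum_mem _ fun a _ => ?_
      rw [map_smul]
      refine Submodule.smul_mem _ _ ?_
      have : (fun j => if a = j then (1 : ℚ) else 0) = Pi.single a 1 := by
        funext j; simp [Pi.single_apply, eq_comm]
      rw [this]
      exact hsingle a
    have h2 := LinearMap.finrank_le_finrank_of_injective
      (f := (L.dualMap)) (LinearMap.dualMap_injective_of_surjective hsurj)
    rw [Subspace.dual_finrank_eq, Subspace.dual_finrank_eq, Module.finrank_prod, Module.finrank_self] at h2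
    omega
  have hγ : Fintype.card α ≤ Module.finrank ℚ (LinearMap.range γ) + 2 := by
    have h1 := LinearMap.finrank_range_add_finrank_ker γ
    rw [Module.finrank_pi] at h1
    let E : LinearMap.ker γ →ₗ[ℚ] ℚ × ℚ :=
      ((LinearMap.proj a₀).prod (LinearMap.proj u)).comp (LinearMap.ker γ).subtype
    have hE : Function.Injective E := by
      rw [← LinearMap.ker_eq_bot, LinearMap.ker_eq_bot']
      rintro ⟨v, hv⟩ he
      rw [LinearMap.mem_ker] at hv
      have he1 : v a₀ = 0 := congrArg Prod.fst he
      have he2 : v u = 0 := congrArg Prod.snd he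
      have hx0 : disp x v = 0 := congrArg (fun w : W => (w.1 : α → ℚ)) hv
      have hy0 : disp y v = 0 := congrArg (fun w : W => (w.2.1 : α → ℚ)) hv
      have hvx : ∀ a, v (x a) = v a := fun a => by
        have h := congrFun hx0 (x a)
        rw [disp_apply, Equiv.symm_apply_apply, Pi.zero_apply] at h
        linarith
      have hvy : ∀ a, v (y a) = v a := fun a => by
        have h := congrFun hy0 (y a)
        rw [disp_apply, Equiv.symm_apply_apply, Pi.zero_apply] at h
        linarith
      have hinv : ∀ g ∈ Subgroup.closure {x, y}, ∀ a, v (g a) = v a := by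
        intro g hg
        induction hg using Subgroup.closure_induction with
        | mem g hg => rcases hg with rfl | rfl <;> assumption
        | one => intro a; rfl
        | mul g h _ _ ihg ihh => intro a; exact (ihg _).trans (ihh a)
        | inv g _ ih => intro a; have := ih (g⁻¹ a); simpa using this.symm
      refine Subtype.ext (funext fun a => ?_)
      by_cases ha : a = u
      · subst ha; exact he2
      · obtain ⟨g, hg, rfl⟩ := horb a ha
        exact (hinv g hg a₀).trans he1
    have h2 := LinearMap.finrank_le_finrank_of_injective hE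
    rw [Module.finrank_prod, Module.finrank_self] at h2
    omega
  have hW : Module.finrank ℚ (LinearMap.range β) + Module.finrank ℚ (LinearMap.ker β) =
      Module.finrank ℚ (LinearMap.range (disp x)) + (Module.finrank ℚ (LinearMap.range (disp y)) +
        Module.finrank ℚ (LinearMap.range (disp z))) := by
    rw [LinearMap.finrank_range_add_finrank_ker β, Module.finrank_prod, Module.finrank_prod]
  have h3 := Submodule.finrank_mono hker
  have dx := finrank_range_disp hx
  have dy := finrank_range_disp hy
  have dz := finrank_range_disp hz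
  omega

end CfsgLib.TripleGen
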