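import Cfsg.Agent.Golay.TripleGen.Cert
import Cfsg.Agent.Golay.TripleGen.Scott
import Cfsg.Agent.Golay.OutTwo22
import Cfsg.Agent.Golay.IndexPoint
import Cfsg.Agent.Golay.SylowCert
import Cfsg.Prelude.Def_Spor_Mathieu

/-!
Generating triples of prime orders in the group of degree 23.
-/

set_option autoImplicit false
set_option linter.style.haveILetI false
set_option maxRecDepth 100000
set_option Elab.async false

namespace CfsgLib.Golay.TripleGen

open Cfsg CfsgLib.Golay CfsgLib.Golay.Cert CfsgLib.Golay.SylowCert CfsgLib.TripleGen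

theorem toList_pow (σ : Equiv.Perm GolayPt) : ∀ n, toList (σ ^ n) = powN (toList σ) n
  | 0 => by rw [pow_zero, toList_one]; rfl
  | n + 1 => by rw [pow_succ, toList_mul, toList_pow σ n]; rfl

theorem pt_23 : pt 23 = none := by decide

theorem permL_none {L : List ℕ} (h : Good L) (hl : L.length = 24) (h23 : L.getD 23 0 = 23) :
    permL L none = none := by
  apply idx_injective
  rw [← toList_getD_idx, toList_permL h hl]
  exact h23

theorem permL_mem23 {L : List ℕ} (h : Good L ∧ L.length = 24 ∧ PreservesCode L ∧ L.getD 23 0 = 23) :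
    permL L ∈ Spor.M23 :=
  ⟨mem_M24_of_preserves _ (by rw [toList_permL h.1 h.2.1]; exact h.2.2.1), permL_none h.1 h.2.1 h.2.2.2⟩

/-- The group generated by the standard pair. -/
noncomputable def stdGroup : Subgroup (Equiv.Perm GolayPt) :=
  Subgroup.closure {permL (stdL.getD 0 []), permL (stdL.getD 1 [])}

/-- Its transversal elements. -/
noncomputable def chainP : List (Equiv.Perm GolayPt) :=
  chainProg.foldl stepP [1, permL (stdL.getD 0 []), permL (stdL.getD 1 [])]

theorem chainP_toList (i : ℕ) : toList (chainP.getD i 1) = chainL.getD i (List.range 24) := by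
  rw [toList_getD_list, chainP, map_toList_run]
  congr 1

theorem chainP_mem (i : ℕ) : chainP.getD i 1 ∈ stdGroup := by
  refine getD_mem_of_forall _ (run_mem _ _ ?_) i
  intro g hg
  simp only [List.mem_cons, List.not_mem_nil, or_false] at hg
  rcases hg with rfl | rfl | rfl
  · exact one_mem _
  all_goals exact Subgroup.subset_closure (by simp)

theorem stdGroup_le : stdGroup ≤ Spor.M23 := by
  rw [stdGroup, Subgroup.closure_le]
  rintro g (rfl | rfl)
  exacts [permL_mem23 (stdL_ok _ (by decide)), permL_mem23 (stdL_ok _ (by decide))]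

theorem fix_mem_std : ∀ n k : ℕ, k + n = 7 → 1 ≤ k → ∀ g ∈ setSystemAut octads,
    (∀ j < k, g (bp j) = bp j) → g ∈ stdGroup := by
  intro n
  induction n with
  | zero =>
    intro k hk _ g hg hfix
    rw [octAut_rigid hg fun j hj => hfix j (by omega)]
    exact one_mem _
  | succ n ih =>
    intro k hk hk1 g hg hfix
    obtain ⟨e, he, hx⟩ := orbit_covers (by omega) hg hfix
    obtain ⟨k', rfl⟩ : ∃ k', k = k' + 1 := ⟨k - 1, by omega⟩
    obtain ⟨e', he', hpos⟩ := List.mem_map.1 (chain_covers k' (by omega) e he)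
    obtain ⟨h0, hfix'⟩ := chain_fix k' (by omega) e' he'
    set t := chainP.getD e'.2 1
    have ht : ∀ i, i < 7 → idx (t (bp i)) = (chainL.getD e'.2 (List.range 24)).getD (baseIdx.getD i 0) 0 := by
      intro i hi
      rw [← idx_bp i hi, ← chainP_toList, toList_getD_idx]
    have hk7 : k' + 1 < 7 := by omega
    have himg : t (bp (k' + 1)) = g (bp (k' + 1)) := by
      apply idx_injective
      rw [ht _ hk7, h0, hpos, ← hx]
      exact (orb_apply hk7 he).1.symm
    have hu : ∀ j < k' + 1, t (bp j) = bp j := fun j hj => by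
      apply idx_injective
      rw [ht _ (by omega), hfix' j hj, idx_bp j (by omega)]
    have h := ih (k' + 2) (by omega) (by omega) (t⁻¹ * g)
      (mul_mem (inv_mem (M24_le_octAut (stdGroup_le (chainP_mem _)).1)) hg) ?_
    · have h' := mul_mem (chainP_mem e'.2) h
      rwa [mul_inv_cancel_left] at h'
    · intro j hj
      rw [Equiv.Perm.mul_apply, Equiv.Perm.inv_def, Equiv.symm_apply_eq]
      rcases Nat.lt_succ_iff_lt_or_eq.mp hj with h | rfl
      · rw [hu j h, hfix j h]
      · exact himg.symm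

theorem bp_zero : bp 0 = none := by decide

theorem M23_le_std : Spor.M23 ≤ stdGroup := fun g hg =>
  fix_mem_std 6 1 rfl le_rfl g (M24_le_octAut hg.1) fun j hj => by
    obtain rfl : j = 0 := by omega
    rw [bp_zero]
    exact hg.2

theorem orderOf_permL {L : List ℕ} (h : Good L) (hl : L.length = 24) {p : ℕ} (hp : p.Prime)
    (h1 : L ≠ List.range 24) (hpow : powN L p = List.range 24) : orderOf (permL L) = p := by
  haveI := Fact.mk hp
  refine orderOf_eq_prime (SylowCert.toList_injective ?_) fun e => h1 ?_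
  · rw [toList_pow, toList_permL h hl, hpow, toList_one]
  · rw [← toList_permL h hl, e, toList_one]

theorem orderOf_m23 (g : Spor.M23) : orderOf (g : Equiv.Perm GolayPt) = orderOf g :=
  orderOf_injective (Spor.M23).subtype Subtype.val_injective g

theorem exists_triple {c : Cert} (hc : c ∈ certs) (hp : c.p.Prime) (hq : c.q.Prime) (hr : c.r.Prime) :
    ∃ x y z : Spor.M23, orderOf x = c.p ∧ orderOf y = c.q ∧ orderOf z = c.r ∧ x * y * z = 1 ∧
      Subgroup.closure {x, y} = ⊤ := by
  haveI := Fact.mk hr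
  obtain ⟨hx, hy⟩ := certs_ok c hc
  obtain ⟨ox, oy, oz⟩ := certs_order c hc
  obtain ⟨ga, gb⟩ := certs_gen c hc
  set x : Spor.M23 := ⟨permL c.x, permL_mem23 hx⟩
  set y : Spor.M23 := ⟨permL c.y, permL_mem23 hy⟩
  refine ⟨x, y, (x * y)⁻¹, ?_, ?_, ?_, mul_inv_cancel _, ?_⟩
  · rw [← orderOf_m23]; exact orderOf_permL hx.1 hx.2.1 hp ox.1 ox.2
  · rw [← orderOf_m23]; exact orderOf_permL hy.1 hy.2.1 hq oy.1 oy.2
  · rw [orderOf_inv, ← orderOf_m23]
    have hl : toList ((x * y : Spor.M23) : Equiv.Perm GolayPt) = compL c.x c.y := by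
      rw [Subgroup.coe_mul, toList_mul, toList_permL hx.1 hx.2.1, toList_permL hy.1 hy.2.1]
    refine orderOf_eq_prime (SylowCert.toList_injective ?_) fun e => oz.1 ?_
    · rw [toList_pow, hl, oz.2, toList_one]
    · rw [← hl, e, toList_one]
  · set H := Subgroup.closure ({permL c.x, permL c.y} : Set (Equiv.Perm GolayPt))
    set tb := c.prog.foldl stepP [1, permL c.x, permL c.y]
    have hmap : tb.map toList = certL c := by
      rw [map_toList_run, List.map_cons, List.map_cons, List.map_cons, List.map_nil, toList_one,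
        toList_permL hx.1 hx.2.1, toList_permL hy.1 hy.2.1]
      rfl
    have hin : ∀ i L, (certL c).getD i [] = L → L.length = 24 → Good L → permL L ∈ H := by
      intro i L he hl hg
      have hil : i < (certL c).length := by
        by_contra hn
        rw [List.getD_eq_default _ _ (not_lt.1 hn)] at he
        rw [← he] at hl
        simp at hl
      have hmem : tb.getD i 1 ∈ H := by
        refine getD_mem_of_forall _ (run_mem _ _ ?_) i
        intro g hg
        simp only [List.mem_cons, List.not_mem_nil, or_false] at hg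
        rcases hg with rfl | rfl | rfl
        · exact one_mem _
        all_goals exact Subgroup.subset_closure (by simp)
      have : toList (tb.getD i 1) = L := by
        rw [toList_getD_list, hmap, List.getD_eq_getElem _ _ hil, ← List.getD_eq_getElem _ [] hil, he]
      rwa [(eq_iff_toList hg hl).1 this] at hmem
    have hstd : stdGroup ≤ H := by
      rw [stdGroup, Subgroup.closure_le]
      rintro g (rfl | rfl)
      · exact hin c.a _ ga (stdL_ok _ (by decide)).2.1 (stdL_ok _ (by decide)).1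
      · exact hin c.b _ gb (stdL_ok _ (by decide)).2.1 (stdL_ok _ (by decide)).1
    refine Subgroup.map_injective (Spor.M23).subtype_injective ?_
    rw [MonoidHom.map_closure, Set.image_insert_eq, Set.image_singleton, ← MonoidHom.range_eq_map,
      Subgroup.range_subtype]
    refine le_antisymm ?_ (M23_le_std.trans hstd)
    rw [Subgroup.closure_le]
    rintro g (rfl | rfl)
    exacts [x.2, y.2]

/-! ### The excluded triples -/

/-- A label list is invariant and onto. -/
def LabOK (L lab : List ℕ) (c : ℕ) : Prop :=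
  (∀ i < 24, lab.getD (L.getD i 0) 0 = lab.getD i 0 ∧ lab.getD i 0 < c) ∧ ∀ v < c, v ∈ lab ∧ lab.length = 24

instance (L lab : List ℕ) (c : ℕ) : Decidable (LabOK L lab c) := by unfold LabOK; infer_instance

theorem lab_ok :
    LabOK rep2A [0, 1, 1, 2, 3, 4, 5, 6, 7, 8, 9, 10, 10, 11, 12, 13, 3, 14, 7, 5, 15, 6, 11, 0] 16 ∧
    LabOK rep3A [0, 0, 1, 1, 2, 1, 2, 3, 4, 5, 3, 3, 2, 6, 7, 6, 8, 9, 6, 10, 8, 8, 11, 0] 12 ∧
    (∀ L ∈ reps5, LabOK L [0, 0, 0, 0, 1, 2, 1, 1, 3, 4, 3, 5, 3, 1, 6, 5, 3, 7, 5, 5, 1, 5, 3, 0] 8) ∧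
    (∀ L ∈ reps7, LabOK L [0, 0, 0, 0, 1, 0, 1, 1, 1, 2, 3, 3, 3, 3, 0, 1, 3, 4, 5, 3, 1, 3, 1, 0] 6) := by
  decide +kernel

theorem hasLab_of_conj {g k : M24} {L lab : List ℕ} {c : ℕ}
    (h : toList ((k * g * k⁻¹ : M24) : Equiv.Perm GolayPt) = L) (hok : LabOK L lab c) :
    HasLab (g : Equiv.Perm GolayPt) c := by
  have hc : HasLab ((k * g * k⁻¹ : M24) : Equiv.Perm GolayPt) c := by
    refine ⟨fun a => ⟨lab.getD (idx a) 0, (hok.1 _ (idx_lt a)).2⟩, ?_, ?_⟩
    · rintro ⟨v, hv⟩
      obtain ⟨hm, hl⟩ := hok.2 v hv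
      obtain ⟨i, hi, rfl⟩ := List.getElem_of_mem hm
      refine ⟨pt i, Fin.ext ?_⟩
      show lab.getD (idx (pt i)) 0 = lab[i]
      rw [idx_pt i (hl ▸ hi), List.getD_eq_getElem _ _ hi]
    · intro a
      refine Fin.ext ?_
      show lab.getD (idx _) 0 = lab.getD (idx a) 0
      rw [← toList_getD_idx, h]
      exact (hok.1 _ (idx_lt a)).1
  have h2 := hc.conj (k : Equiv.Perm GolayPt)
  simpa [mul_assoc] using h2

/-- The cycle numbers of the small prime orders. -/
def cyc (p : ℕ) : ℕ := if p = 2 then 16 else if p = 3 then 12 else if p = 5 then 8 else if p = 7 then 6 else 1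

theorem hasLab_m23 (g : Spor.M23) {p : ℕ} (hg : orderOf g = p) :
    HasLab (g : Equiv.Perm GolayPt) (cyc p) ∨ cyc p = 1 := by
  set g' : M24 := ⟨g, g.2.1⟩
  have ho : orderOf g' = p := by
    rw [← hg, ← orderOf_m23]
    exact (orderOf_injective M24.subtype Subtype.val_injective g').symm
  have hfix : (fixedPts (g' : Equiv.Perm GolayPt)).Nonempty :=
    ⟨none, Finset.mem_filter.2 ⟨Finset.mem_univ _, g.2.2⟩⟩
  have hpos := Finset.card_pos.2 hfix
  unfold cyc
  split_ifs with h2 h3 h5 h7
  · subst h2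
    obtain ⟨k, ⟨hk, -⟩ | ⟨-, h0⟩⟩ := two_cases ho
    · exact Or.inl (hasLab_of_conj (g := g') hk lab_ok.1)
    · omega
  · subst h3
    obtain ⟨k, ⟨hk, -⟩ | ⟨-, h0⟩⟩ := three_cases ho
    · exact Or.inl (hasLab_of_conj (g := g') hk lab_ok.2.1)
    · omega
  · subst h5
    obtain ⟨k, hk⟩ := conjTo_five ho
    exact Or.inl (hasLab_of_conj (g := g') rfl (lab_ok.2.2.1 _ hk))
  · subst h7
    obtain ⟨k, hk⟩ := Cert.conjTo_big (by norm_num) le_rfl Cert.ok_big.1 Cert.ok_big.2.1 ho
    exact Or.inl (hasLab_of_conj (g := g') rfl (lab_ok.2.2.2 _ hk))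
  · exact Or.inr rfl

theorem card_points : Fintype.card GolayPt = 24 := by decide

theorem cyc_sum_le {x y z : Spor.M23} {p q r : ℕ} (hx : orderOf x = p) (hy : orderOf y = q)
    (hz : orderOf z = r) (hxyz : x * y * z = 1) (hgen : Subgroup.closure {x, y} = ⊤) :
    cyc p + cyc q + cyc r ≤ 28 := by
  have lab : ∀ {g : Spor.M23} {n : ℕ}, orderOf g = n →
      ∃ c, HasLab (g : Equiv.Perm GolayPt) c ∧ cyc n ≤ c := by
    intro g n hn
    rcases hasLab_m23 g hn with h | h
    · exact ⟨_, h, le_rfl⟩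
    · exact ⟨1, ⟨fun _ => 0, fun i => ⟨none, (Fin.fin_one_eq_zero i).symm⟩, fun _ => rfl⟩, h.le⟩
  obtain ⟨cx, lx, ex⟩ := lab hx
  obtain ⟨cy, ly, ey⟩ := lab hy
  obtain ⟨cz, lz, ez⟩ := lab hz
  have key := scott (x := (x : Equiv.Perm GolayPt)) (y := y) (z := z)
    (by rw [← Subgroup.coe_mul, ← Subgroup.coe_mul, hxyz, Subgroup.coe_one]) (a₀ := some 0) (u := none)
    ?_ lx ly lz
  · rw [card_points] at key; omega
  intro a ha
  have hcl : Subgroup.closure ({(x : Equiv.Perm GolayPt), (y : Equiv.Perm GolayPt)} : Set _) = Spor.M23 := by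
    have h := congrArg (Subgroup.map (Spor.M23).subtype) hgen
    rw [MonoidHom.map_closure, Set.image_insert_eq, Set.image_singleton, ← MonoidHom.range_eq_map,
      Subgroup.range_subtype] at h
    exact h
  obtain ⟨e, he, h1⟩ := List.mem_map.1 (orb_low 1 (by norm_num) (idx a) (idx_lt a) (fun j hj => by
    obtain rfl : j = 0 := by omega
    exact fun h => ha (idx_injective h)))
  have happ := orb_apply (k := 1) (by norm_num) he
  refine ⟨elt e.2, hcl.ge ⟨elt_mem_M24 _, ?_⟩, ?_⟩
  · have := happ.2 0 (by norm_num)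
    rwa [bp_zero] at this
  · apply idx_injective
    rw [← h1, ← happ.1]
    rfl

theorem cyc_excluded : ∀ p ∈ [2, 3, 5, 7, 11, 23], ∀ q ∈ [2, 3, 5, 7, 11, 23], ∀ r ∈ [2, 3, 5, 7, 11, 23],
    p ≤ q → q ≤ r →
    excl p q r →
      28 < cyc p + cyc q + cyc r := by decide

end CfsgLib.Golay.TripleGen
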